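import Groth.Agent.L28.Morse
import Mathlib.RingTheory.AdicCompletion.Basic

/-!
Translations of power series by tuples in the maximal ideal over a complete local ring.
-/

set_option autoImplicit false
universe u
open MvPowerSeries Finset IsLocalRing Groth.L28.PSer

namespace Groth.L28.Translate

section nilpotent

variable {B : Type u} [CommRing B] {n : ℕ}

lemma hasSubst_add {δ : Fin n → B} (hδ : ∀ i, IsNilpotent (δ i)) :
    HasSubst (fun i => (X i + C (δ i) : MvPowerSeries (Fin n) B)) :=
  hasSubst_of_constantCoeff_nilpotent fun i => by simpa using hδ i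

lemma split_const (H : MvPowerSeries (Fin n) B) :
    H = C (constantCoeff H) + ∑ j, X j * D j (H - C (constantCoeff H)) := by
  rw [sum_X_mul_D (one_le_order_iff_constCoeff_eq_zero.mpr (by simp)), add_sub_cancel]

lemma coeff_single_mul (i : Fin n) (f g : MvPowerSeries (Fin n) B) :
    coeff (Finsupp.single i 1) (f * g) =
      constantCoeff f * coeff (Finsupp.single i 1) g + coeff (Finsupp.single i 1) f * constantCoeff g := by
  classical
  rw [← constantCoeff_pderiv i (f * g), Derivation.leibniz, map_add, smul_eq_mul, smul_eq_mul, map_mul,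
    map_mul, constantCoeff_pderiv, constantCoeff_pderiv]
  ring

variable {δ : Fin n → B} (hδ : ∀ i j, δ i * δ j = 0)
include hδ

lemma isNilp (i : Fin n) : IsNilpotent (δ i) := ⟨2, by rw [pow_two, hδ]⟩

/-- the substitution `X ↦ X + δ` -/
noncomputable def sh : MvPowerSeries (Fin n) B →ₐ[B] MvPowerSeries (Fin n) B :=
  substAlgHom (hasSubst_add (isNilp hδ))

lemma sh_X (j : Fin n) : sh hδ (X j) = X j + C (δ j) := substAlgHom_X _ j

lemma sh_C (b : B) : sh hδ (C b) = C b := (sh hδ).commutes b

lemma mul_constantCoeff_sh (i : Fin n) (H : MvPowerSeries (Fin n) B) :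
    δ i * constantCoeff (sh hδ H) = δ i * constantCoeff H := by
  conv_lhs => rw [split_const H]
  simp only [map_add, map_sum, map_mul, sh_X, sh_C, constantCoeff_C, constantCoeff_X, zero_add, mul_add,
    Finset.mul_sum, ← mul_assoc, hδ, zero_mul, Finset.sum_const_zero, add_zero]

lemma coeff_single_sh (i : Fin n) (H : MvPowerSeries (Fin n) B) :
    coeff (Finsupp.single i 1) (sh hδ H) =
      coeff (Finsupp.single i 1) H + ∑ j, δ j * VanCyc.polarMatrix (VanCyc.quadPart H) i j := by
  classical
  set H' := H - C (constantCoeff H) with hH'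
  let h : Fin n → Fin n → B := fun j l => constantCoeff (D l (D j H' - C (constantCoeff (D j H'))))
  have hne : (Finsupp.single i 1 : Fin n →₀ ℕ) ≠ 0 := by simp
  have cX : ∀ j, coeff (Finsupp.single i 1) (X j + C (δ j) : MvPowerSeries (Fin n) B) =
      if i = j then 1 else 0 := fun j => by
    simp [coeff_X, coeff_C_of_ne_zero hne, Finsupp.single_eq_single_iff]
  have hinner : ∀ j, δ j * coeff (Finsupp.single i 1) (sh hδ (D j H')) = δ j * h j i := fun j => by
    conv_lhs => rw [split_const (D j H')]
    simp only [map_add, map_sum, map_mul, sh_X, sh_C, coeff_single_mul, cX, coeff_C_of_ne_zero hne,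
      constantCoeff_X, constantCoeff_C, zero_add, mul_add, Finset.mul_sum, ← mul_assoc, hδ, zero_mul,
      mul_ite, mul_one, mul_zero, ite_mul, Finset.sum_ite_eq, Finset.mem_univ, if_true]
    rw [mul_constantCoeff_sh hδ]
  have hconst : ∀ j, constantCoeff (sh hδ (D j H')) =
      constantCoeff (D j H') + ∑ l, δ l * h j l := fun j => by
    conv_lhs => rw [split_const (D j H')]
    simp only [map_add, map_sum, map_mul, sh_X, sh_C, constantCoeff_C, constantCoeff_X, zero_add]
    exact congrArg _ (Finset.sum_congr rfl fun l _ => mul_constantCoeff_sh hδ l _)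
  have hlin : constantCoeff (D i H') = coeff (Finsupp.single i 1) H := by
    rw [← coeff_zero_eq_constantCoeff_apply, coeff_D, if_pos (by simp), zero_add, hH', map_sub,
      coeff_C_of_ne_zero hne, sub_zero]
  have hval : ∀ j l, h j l = if j ≤ l then coeff (Finsupp.single l 1 + Finsupp.single j 1) H else 0 := by
    intro j l
    simp only [h]
    rw [← coeff_zero_eq_constantCoeff_apply, coeff_D, if_pos (by simp), zero_add, map_sub,
      coeff_C_of_ne_zero (by simp), sub_zero, coeff_D]
    by_cases hjl : j ≤ l
    · rw [if_pos hjl, if_pos fun t ht => Finsupp.single_eq_of_ne (lt_of_lt_of_le ht hjl).ne, hH', map_sub,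
        coeff_C_of_ne_zero (fun h0 => by simpa using congrArg (· j) h0), sub_zero]
    · rw [if_neg hjl, if_neg fun h0 => by simpa using h0 l (not_le.1 hjl)]
  have key : coeff (Finsupp.single i 1) (sh hδ H) =
      (constantCoeff (D i H') + ∑ l, δ l * h i l) + ∑ j, δ j * h j i := by
    conv_lhs => rw [split_const H, ← hH']
    simp only [map_add, map_sum, map_mul, sh_X, sh_C, coeff_single_mul, cX, coeff_C_of_ne_zero hne,
      constantCoeff_X, constantCoeff_C, zero_add, hinner, Finset.sum_add_distrib, ite_mul, one_mul,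
      zero_mul, Finset.sum_ite_eq, Finset.mem_univ, if_true, hconst]
    rw [add_comm]
  rw [key, hlin, add_assoc, ← Finset.sum_add_distrib]
  congr 1
  refine Finset.sum_congr rfl fun j _ => ?_
  rw [← mul_add, hval, hval]
  congr 1
  unfold VanCyc.polarMatrix VanCyc.quadPart
  rcases lt_trichotomy i j with hij | rfl | hij
  · simp [hij.ne, hij, hij.le, not_le.mpr hij, add_comm]
  · simp [← Finsupp.single_add, two_mul]
  · simp [hij.ne', hij.ne, hij, hij.le, not_le.mpr hij, not_lt.mpr hij.le, add_comm]

end nilpotent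

section complete

variable {A : Type u} [CommRing A] [IsLocalRing A] {n : ℕ}

/-- tuples in the maximal ideal -/
def Small (c : Fin n → A) : Prop := ∀ i, c i ∈ (maximalIdeal A)

/-- reduction modulo `(maximalIdeal A) ^ k` -/
noncomputable abbrev red (k : ℕ) : MvPowerSeries (Fin n) A →+* MvPowerSeries (Fin n) (A ⧸ (maximalIdeal A) ^ k) :=
  MvPowerSeries.map (Ideal.Quotient.mk ((maximalIdeal A) ^ k))

lemma hs {c : Fin n → A} (hc : Small c) (k : ℕ) :
    HasSubst (fun i => (X i + C (Ideal.Quotient.mk ((maximalIdeal A) ^ k) (c i)) : MvPowerSeries (Fin n) (A ⧸ (maximalIdeal A) ^ k))) :=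
  hasSubst_add fun i => ⟨k, by
    rw [← map_pow, Ideal.Quotient.eq_zero_iff_mem]
    exact Ideal.pow_mem_pow (hc i) k⟩

/-- the translation modulo `(maximalIdeal A) ^ k` -/
noncomputable def tr {c : Fin n → A} (hc : Small c) (k : ℕ) :
    MvPowerSeries (Fin n) A →+* MvPowerSeries (Fin n) (A ⧸ (maximalIdeal A) ^ k) :=
  (substAlgHom (hs hc k)).toRingHom.comp (red k)

lemma tr_apply {c : Fin n → A} (hc : Small c) (k : ℕ) (F : MvPowerSeries (Fin n) A) :
    tr hc k F = subst (fun i => X i + C (Ideal.Quotient.mk ((maximalIdeal A) ^ k) (c i))) (red k F) :=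
  congrFun (coe_substAlgHom (hs hc k)) _

lemma tr_compat {c : Fin n → A} (hc : Small c) {k l : ℕ} (h : k ≤ l) (F : MvPowerSeries (Fin n) A) :
    MvPowerSeries.map (Ideal.Quotient.factor (Ideal.pow_le_pow_right h)) (tr hc l F) = tr hc k F := by
  rw [tr_apply, tr_apply, map_subst (hs hc l)]
  congr 1
  funext i; simp

variable [IsAdicComplete (maximalIdeal A) A]

lemma eq_of_red {f g : MvPowerSeries (Fin n) A} (h : ∀ k, red k f = red k g) : f = g := by
  ext d
  refine sub_eq_zero.1 (IsHausdorff.haus' (I := (maximalIdeal A)) _ fun k => ?_)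
  rw [SModEq.sub_mem, sub_zero, smul_eq_mul, Ideal.mul_top, ← Ideal.Quotient.eq]
  simpa using congrArg (coeff d) (h k)

lemma exists_coeff {c : Fin n → A} (hc : Small c) (F : MvPowerSeries (Fin n) A) (d : Fin n →₀ ℕ) :
    ∃ L : A, ∀ k, Ideal.Quotient.mk ((maximalIdeal A) ^ k) L = coeff d (tr hc k F) := by
  choose s hs' using fun k => Ideal.Quotient.mk_surjective (coeff d (tr hc k F))
  obtain ⟨L, hL⟩ := IsPrecomplete.prec' (I := (maximalIdeal A)) s fun {k l} h => by
    rw [SModEq.sub_mem, smul_eq_mul, Ideal.mul_top, ← Ideal.Quotient.eq, hs', ← tr_compat hc h F,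
      coeff_map, ← hs', Ideal.Quotient.factor_mk]
  refine ⟨L, fun k => ?_⟩
  have := hL k
  rw [SModEq.sub_mem, smul_eq_mul, Ideal.mul_top, ← Ideal.Quotient.eq] at this
  rw [← hs', this]

/-- translation by `c` -/
noncomputable def shift {c : Fin n → A} (hc : Small c) (F : MvPowerSeries (Fin n) A) :
    MvPowerSeries (Fin n) A := fun d => (exists_coeff hc F d).choose

lemma red_shift {c : Fin n → A} (hc : Small c) (k : ℕ) (F : MvPowerSeries (Fin n) A) :
    red k (shift hc F) = tr hc k F := by
  ext d
  rw [red, coeff_map]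
  exact (exists_coeff hc F d).choose_spec k

lemma shift_congr {c c' : Fin n → A} (hc : Small c) (hc' : Small c') {k : ℕ}
    (h : ∀ i, c i - c' i ∈ (maximalIdeal A) ^ k) (F : MvPowerSeries (Fin n) A) :
    red k (shift hc F) = red k (shift hc' F) := by
  rw [red_shift, red_shift, tr_apply, tr_apply]
  simp only [Ideal.Quotient.eq.2 (h _)]

lemma shift_add {a b : Fin n → A} (ha : Small a) (hb : Small b) (hab : Small (a + b))
    (F : MvPowerSeries (Fin n) A) : shift hb (shift ha F) = shift hab F := by
  refine eq_of_red fun k => ?_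
  rw [red_shift, red_shift, tr_apply, red_shift, tr_apply, tr_apply, subst_comp_subst_apply (hs ha k) (hs hb k)]
  congr 1
  funext i
  rw [← coe_substAlgHom (hs hb k)]
  simp only [Pi.add_apply, map_add, substAlgHom_X, c_eq_algebraMap, AlgHom.commutes]
  abel

lemma shift_zero (h : Small (0 : Fin n → A)) (F : MvPowerSeries (Fin n) A) : shift h F = F := by
  refine eq_of_red fun k => ?_
  rw [red_shift, tr_apply]
  simp [subst_self]

lemma red_one_shift {c : Fin n → A} (hc : Small c) (F : MvPowerSeries (Fin n) A) :
    red 1 (shift hc F) = red 1 F := by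
  have h0 : Small (0 : Fin n → A) := fun i => zero_mem _
  rw [shift_congr hc h0 (k := 1) (fun i => by simpa using hc i), shift_zero]

/-- translation as an algebra automorphism -/
noncomputable def shiftEquiv {c : Fin n → A} (hc : Small c) :
    MvPowerSeries (Fin n) A ≃ₐ[A] MvPowerSeries (Fin n) A where
  toFun := shift hc
  invFun := shift (c := -c) (fun i => neg_mem (hc i))
  left_inv F := (shift_add hc _ (fun i => by simp) F).trans
    ((eq_of_red fun k => shift_congr _ (fun i => zero_mem (maximalIdeal A)) (fun i => by simp) F).trans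
      (shift_zero _ F))
  right_inv F := (shift_add _ hc (fun i => by simp) F).trans
    ((eq_of_red fun k => shift_congr _ (fun i => zero_mem (maximalIdeal A)) (fun i => by simp) F).trans
      (shift_zero _ F))
  map_mul' f g := eq_of_red fun k => by simp [red_shift]
  map_add' f g := eq_of_red fun k => by simp [red_shift]
  commutes' a := eq_of_red fun k => by
    rw [red_shift, tr_apply, ← c_eq_algebraMap]
    simp

end complete

end Groth.L28.Translate
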