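import Groth.Agent.L28.Translate.Basic
import Mathlib.LinearAlgebra.Matrix.NonsingularInverse

/-!
Killing the linear terms of a power series with non-degenerate quadratic part, by Newton iteration.
-/

set_option autoImplicit false
universe u
open MvPowerSeries Finset IsLocalRing Groth.L28.PSer VanCyc

namespace Groth.L28.Translate

variable {A : Type u} [CommRing A] {n : ℕ}

lemma polar_map {B : Type u} [CommRing B] (φ : A →+* B) (G : MvPowerSeries (Fin n) A) :
    polarMatrix (quadPart (MvPowerSeries.map φ G)) = (polarMatrix (quadPart G)).map φ := by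
  ext i j
  rw [Matrix.map_apply]
  unfold VanCyc.polarMatrix VanCyc.quadPart
  simp only [coeff_map]
  split_ifs <;> simp [map_ofNat]

lemma coeff_quad_pair (q : Fin n → Fin n → A) {i j : Fin n} (h : i ≤ j) :
    coeff (Finsupp.single i 1 + Finsupp.single j 1) (Morse.Q q X) = q i j := by
  classical
  rw [Morse.coeff_Q_X, Finset.sum_eq_single i ?_ (by simp), Finset.sum_eq_single j ?_ (by simp),
    if_pos ⟨h, rfl⟩]
  · intro l _ hl
    exact if_neg fun ⟨h1, h2⟩ => hl ((Morse.pair_eq h h1).mp h2.symm).2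
  · intro l _ hl
    exact Finset.sum_eq_zero fun l' _ =>
      if_neg fun ⟨h1, h2⟩ => hl ((Morse.pair_eq h h1).mp h2.symm).1

lemma polar_quadPart_eq (q : Fin n → Fin n → A) (G : MvPowerSeries (Fin n) A)
    (h : ∀ e : Fin n →₀ ℕ, e.degree = 2 → coeff e G = coeff e (Morse.Q q X)) :
    polarMatrix (quadPart G) = polarMatrix q := by
  have h2 : ∀ i j : Fin n, i ≤ j → coeff (Finsupp.single i 1 + Finsupp.single j 1) G = q i j :=
    fun i j hij => by rw [h _ (by simp), coeff_quad_pair q hij]
  ext i j
  unfold VanCyc.polarMatrix VanCyc.quadPart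
  rcases lt_trichotomy i j with hij | rfl | hij
  · simp [hij.ne, hij, h2 i j hij.le]
  · have := h2 i i le_rfl
    rw [← Finsupp.single_add] at this
    simp [this]
  · simp [hij.ne', hij.ne, not_lt.mpr hij.le, hij, h2 j i hij.le]

lemma quadPart_sub_C (G : MvPowerSeries (Fin n) A) (a : A) :
    quadPart (G - C a) = quadPart G := by
  classical
  funext i j
  unfold VanCyc.quadPart
  split_ifs with h1 h2
  · rw [map_sub, coeff_C_of_ne_zero (by simp), sub_zero]
  · rw [map_sub, coeff_C_of_ne_zero (fun h => by simpa using congrArg Finsupp.degree h), sub_zero]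
  · rfl

variable [IsLocalRing A]

lemma isUnit_of_sub_mem {x y : A} (hy : IsUnit y) (h : x - y ∈ maximalIdeal A) : IsUnit x := by
  by_contra hx
  exact ((mem_maximalIdeal _).mp (by simpa using sub_mem ((mem_maximalIdeal x).mpr hx) h)) hy

variable [IsAdicComplete (maximalIdeal A) A]

lemma isUnit_det_shift {c : Fin n → A} (hc : Small c) {F : MvPowerSeries (Fin n) A}
    (hF : IsUnit (polarMatrix (quadPart F)).det) :
    IsUnit (polarMatrix (quadPart (shift hc F))).det := by
  refine isUnit_of_sub_mem hF ?_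
  have h := congrArg (fun G => (polarMatrix (quadPart G)).det) (red_one_shift hc F)
  simp only [red, polar_map, ← RingHom.mapMatrix_apply, ← RingHom.map_det] at h
  simpa [Ideal.Quotient.eq] using h

/-- the linear coefficients after translation -/
noncomputable def lin {c : Fin n → A} (hc : Small c) (F : MvPowerSeries (Fin n) A) (i : Fin n) : A :=
  coeff (Finsupp.single i 1) (shift hc F)

lemma newton {F : MvPowerSeries (Fin n) A} (hF : IsUnit (polarMatrix (quadPart F)).det)
    {c : Fin n → A} (hc : Small c) {k : ℕ} (h : ∀ i, lin hc F i ∈ maximalIdeal A ^ (k + 1)) :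
    ∃ (c' : Fin n → A) (hc' : Small c'), (∀ i, c i - c' i ∈ maximalIdeal A ^ (k + 1)) ∧
      ∀ i, lin hc' F i ∈ maximalIdeal A ^ (k + 2) := by
  set P := polarMatrix (quadPart (shift hc F)) with hP
  have hPu : IsUnit P.det := isUnit_det_shift hc hF
  set δ : Fin n → A := -(P⁻¹.mulVec (lin hc F)) with hδdef
  have hPδ : P.mulVec δ = -lin hc F := by
    rw [hδdef, Matrix.mulVec_neg, Matrix.mulVec_mulVec, Matrix.mul_nonsing_inv _ hPu, Matrix.one_mulVec]
  have hδk : ∀ i, δ i ∈ maximalIdeal A ^ (k + 1) := fun i => by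
    rw [hδdef, Pi.neg_apply]
    refine neg_mem ?_
    simp only [Matrix.mulVec, dotProduct]
    exact Ideal.sum_mem _ fun j _ => Ideal.mul_mem_left _ _ (h j)
  have hδ : Small δ := fun i => Ideal.pow_le_self (Nat.succ_ne_zero k) (hδk i)
  have hcδ : Small (c + δ) := fun i => add_mem (hc i) (hδ i)
  refine ⟨c + δ, hcδ, fun i => by simpa using hδk i, fun i => ?_⟩
  have hsq : ∀ a b : Fin n, Ideal.Quotient.mk (maximalIdeal A ^ (k + 2)) (δ a) *
      Ideal.Quotient.mk (maximalIdeal A ^ (k + 2)) (δ b) = 0 := fun a b => by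
    rw [← map_mul, Ideal.Quotient.eq_zero_iff_mem]
    have := Ideal.mul_mem_mul (hδk a) (hδk b)
    rw [← pow_add] at this
    exact Ideal.pow_le_pow_right (by omega) this
  have e : red (k + 2) (shift hcδ F) = sh hsq (red (k + 2) (shift hc F)) := by
    rw [← shift_add hc hδ hcδ, red_shift, tr_apply, sh, coe_substAlgHom]
  have e' := congrArg (coeff (Finsupp.single i 1)) e
  rw [coeff_single_sh, red, coeff_map, coeff_map, polar_map] at e'
  rw [← Ideal.Quotient.eq_zero_iff_mem, lin, e']
  simp only [Matrix.map_apply, ← map_mul, ← map_sum, ← map_add]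
  have hs : ∑ j, δ j * P i j = (P.mulVec δ) i := by
    simp only [Matrix.mulVec, dotProduct, mul_comm]
  rw [hP] at hs
  rw [hs, ← hP, hPδ, Pi.neg_apply, lin, add_neg_cancel, map_zero]

/-- a translation killing all linear terms -/
theorem exists_lin_eq_zero {F : MvPowerSeries (Fin n) A} (hF : IsUnit (polarMatrix (quadPart F)).det)
    (hl : ∀ i, coeff (Finsupp.single i 1) F ∈ maximalIdeal A) :
    ∃ (c : Fin n → A) (hc : Small c), ∀ i, lin hc F i = 0 := by
  have h0 : Small (0 : Fin n → A) := fun i => zero_mem _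
  let T (k : ℕ) := {c : Fin n → A // ∃ hc : Small c, ∀ i, lin hc F i ∈ maximalIdeal A ^ (k + 1)}
  let step (k : ℕ) (t : T k) : {t' : T (k + 1) // ∀ i, t.1 i - t'.1 i ∈ maximalIdeal A ^ (k + 1)} :=
    have hex := newton hF t.2.choose t.2.choose_spec
    ⟨⟨hex.choose, hex.choose_spec.choose, hex.choose_spec.choose_spec.2⟩,
      hex.choose_spec.choose_spec.1⟩
  let s : ∀ k, T k := fun k => Nat.rec
    (⟨0, h0, fun i => by rw [lin, shift_zero, pow_one]; exact hl i⟩ : T 0)
    (fun k t => (step k t).1) k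
  have hstep : ∀ k i, (s k).1 i - (s (k + 1)).1 i ∈ maximalIdeal A ^ (k + 1) :=
    fun k => (step k (s k)).2
  have hcauchy : ∀ i {k l : ℕ}, k ≤ l → (s k).1 i - (s l).1 i ∈ maximalIdeal A ^ k := by
    intro i k l hkl
    induction l, hkl using Nat.le_induction with
    | base => simp
    | succ l hkl ih =>
      rw [← sub_add_sub_cancel ((s k).1 i) ((s l).1 i)]
      exact add_mem ih (Ideal.pow_le_pow_right (by omega) (hstep l i))
  choose L hL using fun i => IsPrecomplete.prec' (I := maximalIdeal A) (fun k => (s k).1 i)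
    fun {k l} h => by
      rw [SModEq.sub_mem, smul_eq_mul, Ideal.mul_top]
      exact hcauchy i h
  have hL' : ∀ k i, (s k).1 i - L i ∈ maximalIdeal A ^ k := fun k i => by
    simpa [SModEq.sub_mem, smul_eq_mul, Ideal.mul_top] using hL i k
  have hLs : Small L := fun i => by
    simpa using sub_mem ((s 1).2.choose i) (by simpa using hL' 1 i : (s 1).1 i - L i ∈ maximalIdeal A)
  refine ⟨L, hLs, fun i => IsHausdorff.haus' (I := maximalIdeal A) _ fun k => ?_⟩
  rw [SModEq.sub_mem, sub_zero, smul_eq_mul, Ideal.mul_top, ← Ideal.Quotient.eq_zero_iff_mem]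
  have e := congrArg (coeff (Finsupp.single i 1))
    (shift_congr (s k).2.choose hLs (hL' k) F)
  rw [red, coeff_map, coeff_map] at e
  rw [lin, ← e, Ideal.Quotient.eq_zero_iff_mem]
  exact Ideal.pow_le_pow_right (Nat.le_succ k) ((s k).2.choose_spec i)

end Groth.L28.Translate
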